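import Mathlib.RingTheory.PowerSeries.Basic
import Mathlib.FieldTheory.PurelyInseparable.Basic
import Mathlib.FieldTheory.SeparableClosure
import Mathlib.FieldTheory.IntermediateField.Adjoin.Basic
import Mathlib.RingTheory.PowerSeries.Inverse

/-! Homomorphisms into power series are determined by the value on a separating-up-to-Frobenius
element and the constant term map. -/

namespace Groth.Agent.Exp31

open Polynomial

variable {k K L : Type*} [Field k] [Field K] [Algebra k K] [Field L]

theorem eq_of_separable_root {A : Type*} [CommRing A] [IsDomain A] (p : A[X]) {r₁ r₂ : A}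
    (h₁ : p.IsRoot r₁) (h₂ : p.IsRoot r₂) (hd : ∀ q : A, p.derivative.eval r₁ + (r₂ - r₁) * q ≠ 0) :
    r₁ = r₂ := by
  obtain ⟨q, hq⟩ := p.binomExpansion r₁ (r₂ - r₁)
  rw [add_sub_cancel, h₁.eq_zero, h₂.eq_zero, zero_add] at hq
  have : (r₂ - r₁) * (p.derivative.eval r₁ + (r₂ - r₁) * q) = 0 := by linear_combination -hq
  exact (sub_eq_zero.1 ((mul_eq_zero.1 this).resolve_right (hd q))).symm

/-- Two homomorphisms into power series over a field agreeing on `x`, on constants and on constant
terms agree on every element algebraic over `k(x)`. -/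
theorem hom_ext_powerSeries (x : K) [Algebra.IsAlgebraic (IntermediateField.adjoin k ({x} : Set K)) K]
    (E₁ E₂ : K →+* PowerSeries L) (hc : ∀ c : k, E₁ (algebraMap k K c) = E₂ (algebraMap k K c))
    (hx : E₁ x = E₂ x)
    (h0 : ∀ z, PowerSeries.constantCoeff (E₁ z) = PowerSeries.constantCoeff (E₂ z)) : E₁ = E₂ := by
  set M := IntermediateField.adjoin k ({x} : Set K)
  have hM : ∀ z ∈ M, E₁ z = E₂ z := by
    intro z hz
    induction hz using IntermediateField.adjoin_induction with
    | mem y hy => obtain rfl : y = x := hy; exact hx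
    | algebraMap c => exact hc c
    | add y w _ _ h1 h2 => rw [map_add, map_add, h1, h2]
    | inv y _ h1 =>
      rcases eq_or_ne y 0 with rfl | hy
      · simp
      refine mul_left_cancel₀ (a := E₁ y) ((map_ne_zero E₁).2 hy) ?_
      rw [← map_mul, mul_inv_cancel₀ hy, map_one, h1, ← map_mul, mul_inv_cancel₀ hy, map_one]
    | mul y w _ _ h1 h2 => rw [map_mul, map_mul, h1, h2]
  let i₁ : M →+* PowerSeries L := E₁.comp (algebraMap M K)
  have hi : i₁ = E₂.comp (algebraMap M K) := RingHom.ext fun m => hM _ m.2
  have hsep : ∀ z : K, IsSeparable M z → E₁ z = E₂ z := by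
    intro z hz
    set p := minpoly M z
    have hroot₁ : (p.map i₁).IsRoot (E₁ z) := by
      rw [IsRoot, eval_map, ← hom_eval₂, ← aeval_def, minpoly.aeval, map_zero]
    have hroot₂ : (p.map i₁).IsRoot (E₂ z) := by
      rw [IsRoot, eval_map, hi, ← hom_eval₂, ← aeval_def, minpoly.aeval, map_zero]
    refine eq_of_separable_root _ hroot₁ hroot₂ fun q hq => ?_
    have h1 := congrArg PowerSeries.constantCoeff hq
    rw [map_add, map_mul, map_sub, h0 z, sub_self, zero_mul, add_zero, map_zero,
      derivative_map, eval_map, ← hom_eval₂, ← aeval_def] at h1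
    exact hz.aeval_derivative_ne_zero (minpoly.aeval M z)
      ((map_eq_zero (PowerSeries.constantCoeff.comp E₁)).1 h1)
  ext1 z
  obtain ⟨q, hq⟩ := ExpChar.exists M
  obtain ⟨n, w, hw⟩ := IsPurelyInseparable.pow_mem (separableClosure M K) q z
  have : ExpChar (separableClosure M K) q :=
    expChar_of_injective_algebraMap (algebraMap M (separableClosure M K)).injective q
  have hpow : E₁ z ^ q ^ n = E₂ z ^ q ^ n := by
    rw [← map_pow, ← map_pow, ← hw]
    exact hsep _ (mem_separableClosure_iff.1 w.2)
  have : ExpChar (PowerSeries L) q := expChar_of_injective_ringHom i₁.injective q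
  exact iterateFrobenius_inj (PowerSeries L) q n hpow

end Groth.Agent.Exp31
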