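import Groth.Agent.Exp31.Taylor
import Groth.Agent.Exp31.HomUnique
import Mathlib.RingTheory.PowerSeries.Substitution

/-! The chain rule: Hasse derivatives read through an expansion. -/

namespace Groth.Agent.Exp31

open scoped LaurentSeries

variable {k K F : Type*} [Field k] [Field K] [Algebra k K] [Field F] [Algebra k F]

/-- The increment of `φ x` under the shift of the variable. -/
noncomputable def incr (φ : K →ₐ[k] F⸨X⸩) (x : K) : PowerSeries F⸨X⸩ :=
  taylor (φ x) - PowerSeries.C (φ x)

theorem constantCoeff_incr (φ : K →ₐ[k] F⸨X⸩) (x : K) :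
    PowerSeries.constantCoeff (incr φ x) = 0 := by
  simp [incr, constantCoeff_taylor]

variable {x : K} [Algebra.IsAlgebraic (IntermediateField.adjoin k ({x} : Set K)) K]
  {H : K →ₐ[k] PowerSeries K}

/-- The chain rule. -/
theorem taylor_eq_subst (φ : K →ₐ[k] F⸨X⸩) (hH : LocRes.IsHasseFamily x H) (z : K) :
    taylor (φ z) = PowerSeries.subst (incr φ x) (PowerSeries.map φ.toRingHom (H z)) := by
  have ha : PowerSeries.HasSubst (incr φ x) :=
    PowerSeries.HasSubst.of_constantCoeff_zero' (constantCoeff_incr φ x)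
  let s : PowerSeries F⸨X⸩ →ₐ[F⸨X⸩] PowerSeries F⸨X⸩ := PowerSeries.substAlgHom ha
  have hsC : ∀ c, s (PowerSeries.C c) = PowerSeries.C c := fun c => s.commutes c
  have hs : ∀ G, s G = PowerSeries.subst (incr φ x) G := fun G => by rw [PowerSeries.coe_substAlgHom]
  rw [← hs]
  refine DFunLike.congr_fun (hom_ext_powerSeries (k := k) x ((taylor (F := F)).comp φ.toRingHom)
    (s.toRingHom.comp ((PowerSeries.map φ.toRingHom).comp H.toRingHom)) ?_ ?_ ?_) z
  · intro c
    show taylor (φ (algebraMap k K c)) = s (PowerSeries.map φ.toRingHom (H (algebraMap k K c)))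
    rw [H.commutes, PowerSeries.algebraMap_apply, PowerSeries.map_C, hsC]
    show taylor (φ (algebraMap k K c)) = PowerSeries.C (φ (algebraMap k K c))
    rw [LocRes.map_algebraMap, taylor_C]
  · show taylor (φ x) = s (PowerSeries.map φ.toRingHom (H x))
    rw [hH.1, map_add, PowerSeries.map_C, PowerSeries.map_X, map_add, hsC, hs,
      PowerSeries.subst_X ha]
    show taylor (φ x) = PowerSeries.C (φ x) + incr φ x
    rw [incr, add_sub_cancel]
  · intro w
    show PowerSeries.constantCoeff (taylor (φ w)) =
      PowerSeries.constantCoeff (s (PowerSeries.map φ.toRingHom (H w)))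
    rw [constantCoeff_taylor]
    obtain ⟨G, hG⟩ := PowerSeries.X_dvd_iff.2
      (show PowerSeries.constantCoeff (PowerSeries.map φ.toRingHom (H w) - PowerSeries.C (φ w)) = 0 by
        rw [map_sub, ← PowerSeries.coeff_zero_eq_constantCoeff_apply, PowerSeries.coeff_map,
          PowerSeries.coeff_zero_eq_constantCoeff_apply, hH.2, PowerSeries.constantCoeff_C]
        exact sub_self _)
    rw [sub_eq_iff_eq_add'.1 hG, map_add, map_mul, hsC, hs PowerSeries.X, PowerSeries.subst_X ha,
      map_add, map_mul, constantCoeff_incr, zero_mul, add_zero, PowerSeries.constantCoeff_C]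

/-- Hasse derivatives with respect to a parameter are read off as Hasse derivatives of the series. -/
theorem hasseDeriv_expansion (φ : K →ₐ[k] F⸨X⸩) (hH : LocRes.IsHasseFamily x H) {c : F}
    (hx : φ x = HahnSeries.single 1 1 + HahnSeries.C c) (j : ℕ) (z : K) :
    LaurentSeries.hasseDeriv F j (φ z) = φ (LocRes.hasseD H j z) := by
  have hi : incr φ x = PowerSeries.X := by
    rw [incr, hx, map_add, taylor_X, taylor_C, shiftX, map_add]
    ring
  rw [← coeff_taylor, taylor_eq_subst φ hH z, hi, PowerSeries.X_subst, PowerSeries.coeff_map]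
  rfl

/-- The first derivative: `d (φ z) = φ (D z) · d (φ x)`. -/
theorem D_expansion (φ : K →ₐ[k] F⸨X⸩) (hH : LocRes.IsHasseFamily x H) (z : K) :
    LocRes.D F (φ z) = φ (LocRes.hasseD H 1 z) * LocRes.D F (φ x) := by
  have ha : PowerSeries.HasSubst (incr φ x) :=
    PowerSeries.HasSubst.of_constantCoeff_zero' (constantCoeff_incr φ x)
  rw [← hasseDeriv_one_eq, ← coeff_taylor, taylor_eq_subst φ hH z,
    PowerSeries.coeff_subst' ha, finsum_eq_single _ 1]
  · rw [pow_one, smul_eq_mul, PowerSeries.coeff_map, incr, map_sub, coeff_taylor, hasseDeriv_one_eq,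
      PowerSeries.coeff_C, if_neg one_ne_zero, sub_zero]
    rfl
  · intro d hd
    rcases Nat.eq_zero_or_pos d with rfl | hd0
    · rw [pow_zero, PowerSeries.coeff_one, if_neg one_ne_zero, smul_zero]
    · obtain ⟨G, hG⟩ := PowerSeries.X_dvd_iff.2 (constantCoeff_incr φ x)
      rw [hG, mul_pow, PowerSeries.coeff_X_pow_mul', if_neg (by omega), smul_zero]

end Groth.Agent.Exp31
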