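import Groth.Prelude.Def_LocRes
import Groth.Agent.Exp31.HomUnique
import Mathlib.RingTheory.Henselian
import Mathlib.RingTheory.AdicCompletion.Completeness
import Mathlib.FieldTheory.RatFunc.AsPolynomial
import Mathlib.FieldTheory.PrimitiveElement
import Mathlib.FieldTheory.IntermediateField.Adjoin.Algebra

/-! Existence and uniqueness of total Hasse derivatives. -/

namespace Groth.Agent.Exp31

open Polynomial

variable {k K : Type*} [Field k] [Field K] [Algebra k K]

theorem exists_isHasseFamily (x : K) (hx : Transcendental k x)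
    [FiniteDimensional (IntermediateField.adjoin k ({x} : Set K)) K]
    [Algebra.IsSeparable (IntermediateField.adjoin k ({x} : Set K)) K] :
    ∃ H : K →ₐ[k] PowerSeries K, LocRes.IsHasseFamily x H := by
  classical
  set M := IntermediateField.adjoin k ({x} : Set K) with hMdef
  -- the polynomial map `p ↦ p (x + T)`
  let ev : k[X] →ₐ[k] PowerSeries K := aeval (PowerSeries.C x + PowerSeries.X)
  have hev : ∀ p : k[X], PowerSeries.constantCoeff (ev p) = aeval x p := by
    intro p
    show PowerSeries.constantCoeff (aeval _ p) = _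
    rw [aeval_def, hom_eval₂, aeval_def]
    simp [show (PowerSeries.constantCoeff (R := K)).comp (algebraMap k (PowerSeries K)) =
      algebraMap k K from RingHom.ext fun c => by simp [PowerSeries.algebraMap_apply]]
  have hu : ∀ p : k[X], p ≠ 0 → IsUnit (ev p) := fun p hp => by
    rw [PowerSeries.isUnit_iff_constantCoeff, hev, isUnit_iff_ne_zero]
    exact fun h => hp (transcendental_iff.1 hx p h)
  have hmem : ∀ m : M, ∃ F : PowerSeries K, ∀ p q : k[X], q ≠ 0 →
      (m : K) * aeval x q = aeval x p → F * ev q = ev p := by
    intro m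
    obtain ⟨p₀, q₀, hpq⟩ := (IntermediateField.mem_adjoin_simple_iff k (m : K)).1 m.2
    rcases eq_or_ne q₀ 0 with rfl | hq₀
    · refine ⟨0, fun p q hq h => ?_⟩
      simp only [map_zero, div_zero] at hpq
      rw [hpq, zero_mul] at h
      rw [show p = 0 from transcendental_iff.1 hx p h.symm, map_zero, zero_mul]
    · have hne : aeval x q₀ ≠ 0 := fun h => hq₀ (transcendental_iff.1 hx _ h)
      refine ⟨ev p₀ * ((hu q₀ hq₀).unit⁻¹ : (PowerSeries K)ˣ), fun p q hq h => ?_⟩
      rw [hpq, div_mul_eq_mul_div, div_eq_iff hne, ← map_mul, ← map_mul, ← sub_eq_zero,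
        ← map_sub] at h
      have h' := sub_eq_zero.1 (transcendental_iff.1 hx _ h)
      have := congrArg ev h'
      rw [map_mul, map_mul] at this
      rw [mul_right_comm, this, mul_assoc, IsUnit.mul_val_inv, mul_one]
  choose G hG using hmem
  have hrep : ∀ m : M, ∃ p q : k[X], q ≠ 0 ∧ (m : K) * aeval x q = aeval x p := by
    intro m
    obtain ⟨p, q, hpq⟩ := (IntermediateField.mem_adjoin_simple_iff k (m : K)).1 m.2
    rcases eq_or_ne q 0 with rfl | hq
    · exact ⟨0, 1, one_ne_zero, by simp [hpq]⟩
    · exact ⟨p, q, hq, by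
        rw [hpq, div_mul_cancel₀]; exact fun h => hq (transcendental_iff.1 hx _ h)⟩
  let i : M →+* PowerSeries K :=
    { toFun := G
      map_one' := by simpa using hG 1 1 1 one_ne_zero (by simp)
      map_zero' := by simpa using hG 0 0 1 one_ne_zero (by simp)
      map_mul' := fun a b => by
        obtain ⟨p, q, hq, ha⟩ := hrep a
        obtain ⟨p', q', hq', hb⟩ := hrep b
        have h := hG (a * b) (p * p') (q * q') (mul_ne_zero hq hq') (by
          push_cast; rw [map_mul, map_mul]
          linear_combination ((b : K) * aeval x q') * ha + (aeval x p) * hb)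
        refine (hu _ (mul_ne_zero hq hq')).mul_left_injective ?_
        show G (a * b) * ev (q * q') = G a * G b * ev (q * q')
        rw [h, map_mul, map_mul, ← hG a p q hq ha, ← hG b p' q' hq' hb]
        ring
      map_add' := fun a b => by
        obtain ⟨p, q, hq, ha⟩ := hrep a
        obtain ⟨p', q', hq', hb⟩ := hrep b
        have h := hG (a + b) (p * q' + p' * q) (q * q') (mul_ne_zero hq hq') (by
          push_cast; rw [map_add, map_mul, map_mul, map_mul]
          linear_combination (aeval x q') * ha + (aeval x q) * hb)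
        refine (hu _ (mul_ne_zero hq hq')).mul_left_injective ?_
        show G (a + b) * ev (q * q') = (G a + G b) * ev (q * q')
        rw [h, map_add, map_mul, map_mul, map_mul, ← hG a p q hq ha, ← hG b p' q' hq' hb]
        ring }
  have hi0 : ∀ m : M, PowerSeries.constantCoeff (i m) = (m : K) := by
    intro m
    obtain ⟨p, q, hq, hm⟩ := hrep m
    have h := congrArg PowerSeries.constantCoeff (hG m p q hq hm)
    rw [map_mul, hev, hev, ← hm] at h
    exact mul_right_cancel₀ (fun h0 => hq (transcendental_iff.1 hx _ h0)) h
  obtain ⟨y, hy⟩ := Field.exists_primitive_element M K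
  have hyint : IsIntegral M y := IsIntegral.of_finite M y
  have hcomp : (PowerSeries.constantCoeff (R := K)).comp i = algebraMap M K :=
    RingHom.ext fun m => hi0 m
  have hI : ∀ F : PowerSeries K,
      F ∈ Ideal.span {(PowerSeries.X : PowerSeries K)} ↔ PowerSeries.constantCoeff F = 0 := fun F => by
    rw [Ideal.mem_span_singleton, PowerSeries.X_dvd_iff]
  obtain ⟨r, hr, hry⟩ := HenselianRing.is_henselian
    (I := Ideal.span {(PowerSeries.X : PowerSeries K)}) ((minpoly M y).map i)
    ((minpoly.monic hyint).map i) (PowerSeries.C y)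
    (by
      rw [hI, eval_map, hom_eval₂, hcomp, PowerSeries.constantCoeff_C, ← aeval_def, minpoly.aeval])
    (by
      refine (PowerSeries.isUnit_iff_constantCoeff.2 ?_).map _
      rw [derivative_map, eval_map, hom_eval₂, hcomp, PowerSeries.constantCoeff_C, ← aeval_def,
        isUnit_iff_ne_zero]
      exact (Algebra.IsSeparable.isSeparable M y).aeval_derivative_ne_zero (minpoly.aeval M y))
  rw [hI, map_sub, PowerSeries.constantCoeff_C, sub_eq_zero] at hry
  let := i.toAlgebra
  have hr' : aeval r (minpoly M y) = 0 := by
    rw [aeval_def, ← eval_map]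
    exact hr
  let pb := IntermediateField.adjoin.powerBasis hyint
  let e : IntermediateField.adjoin M ({y} : Set K) →ₐ[M] PowerSeries K :=
    pb.lift r (by
      rw [IntermediateField.adjoin.powerBasis_gen, IntermediateField.minpoly_gen]
      exact hr')
  let H' : K →ₐ[M] PowerSeries K :=
    e.comp ((IntermediateField.equivOfEq hy.symm).toAlgHom.comp IntermediateField.topEquiv.symm.toAlgHom)
  have hH'y : H' y = r := by
    show e _ = r
    refine Eq.trans (congrArg e ?_) (pb.lift_gen r _)
    exact Subtype.ext rfl
  have hH'0 : ∀ z, PowerSeries.constantCoeff (H' z) = z := by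
    intro z
    have hz : z ∈ Algebra.adjoin M ({y} : Set K) := by
      rw [← IntermediateField.adjoin_simple_toSubalgebra_of_isAlgebraic hyint.isAlgebraic, hy]
      exact IntermediateField.mem_top
    induction hz using Algebra.adjoin_induction with
    | mem w hw => obtain rfl : w = y := hw; rw [hH'y, hry]
    | algebraMap m => rw [AlgHom.commutes]; exact hi0 m
    | add a b _ _ h1 h2 => rw [map_add, map_add, h1, h2]
    | mul a b _ _ h1 h2 => rw [map_mul, map_mul, h1, h2]
  let H : K →ₐ[k] PowerSeries K :=
    { H'.toRingHom with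
      commutes' := fun c => by
        show H' (algebraMap k K c) = _
        rw [IsScalarTower.algebraMap_apply k M K, AlgHom.commutes]
        have h := hG (algebraMap k M c) (C c) 1 one_ne_zero (by simp)
        rw [map_one, mul_one] at h
        exact h.trans (aeval_C _ _) }
  refine ⟨H, ?_, hH'0⟩
  show H' x = _
  have hxM : x ∈ M := IntermediateField.mem_adjoin_simple_self k x
  rw [show x = algebraMap M K ⟨x, hxM⟩ from rfl, AlgHom.commutes]
  have h := hG ⟨x, hxM⟩ X 1 one_ne_zero (by simp)
  rw [map_one, mul_one] at h
  exact h.trans (aeval_X _)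

theorem isHasseFamily_unique {x : K}
    [Algebra.IsAlgebraic (IntermediateField.adjoin k ({x} : Set K)) K] {H₁ H₂ : K →ₐ[k] PowerSeries K}
    (h₁ : LocRes.IsHasseFamily x H₁) (h₂ : LocRes.IsHasseFamily x H₂) : H₁ = H₂ :=
  AlgHom.coe_ringHom_injective (hom_ext_powerSeries (k := k) x _ _
    (fun c => (H₁.commutes c).trans (H₂.commutes c).symm) (h₁.1.trans h₂.1.symm)
    fun z => (h₁.2 z).trans (h₂.2 z).symm)

end Groth.Agent.Exp31
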