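import Groth.Prelude.Def_W4bk4goldsch23FF
import Groth.Agent.FF30.FF
import Groth.Agent.FF30.Basic
import Groth.Agent.Exp31.Chain
import Groth.Agent.Exp31.Hasse
import Mathlib.FieldTheory.SeparablyGenerated
import Mathlib.RingTheory.TensorProduct.Basic
import Mathlib.LinearAlgebra.Basis.VectorSpace
import Mathlib.RingTheory.AlgebraicIndependent.TranscendenceBasis

/-! Separating elements of geometric function fields and derivations. -/

namespace Groth.Agent.Exp31

open FunFld IntermediateField
open scoped TensorProduct

universe u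

section Sep

variable {k : Type u} {K : Type*} [Field k] [Field K] [Algebra k K]

theorem linearIndepOn_pow_of_isGeometric (hg : IsGeometric k K) (p : ℕ) [hp : Fact p.Prime]
    [CharP k p] (s : Finset K) (hs : LinearIndepOn k _root_.id (s : Set K)) :
    LinearIndepOn k (fun x => x ^ p) (s : Set K) := by
  classical
  rw [LinearIndepOn, Fintype.linearIndependent_iff]
  intro c hc i
  let Ω := AlgebraicClosure k
  have hroot : ∀ j, ∃ α : Ω, α ^ p = algebraMap k Ω (c j) := fun j =>
    IsAlgClosed.exists_pow_nat_eq _ hp.out.pos
  choose α hα using hroot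
  let k' := IntermediateField.adjoin k (Set.range α)
  have : FiniteDimensional k k' := IntermediateField.finiteDimensional_adjoin fun x _ =>
    (Algebra.IsIntegral.isIntegral x)
  have hfield := hg k' ‹_›
  let : Field (k' ⊗[k] K) := hfield.toField
  let a : (↑s : Set K) → k' := fun j => ⟨α j, subset_adjoin k _ ⟨j, rfl⟩⟩
  have : CharP K p := charP_of_injective_algebraMap (algebraMap k K).injective p
  have : CharP (k' ⊗[k] K) p :=
    charP_of_injective_ringHom (algebraMap k (k' ⊗[k] K)).injective p
  have h0 : ∑ j, a j ⊗ₜ[k] (j : K) = 0 := by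
    refine eq_zero_of_pow_eq_zero (n := p) ?_
    rw [sum_pow_char]
    have : ∀ j, (a j ⊗ₜ[k] (j : K)) ^ p = (1 : k') ⊗ₜ[k] (c j • (j : K) ^ p) := by
      intro j
      rw [Algebra.TensorProduct.tmul_pow, show a j ^ p = c j • (1 : k') from Subtype.ext (by
        simp [a, hα, Algebra.smul_def]), TensorProduct.smul_tmul]
    simp only [this, ← TensorProduct.tmul_sum, hc, TensorProduct.tmul_zero]
  let b := Module.Basis.extend hs
  have hsub : (↑s : Set K) ⊆ hs.extend (Set.subset_univ _) := hs.subset_extend _
  have hi := congrArg (fun z => TensorProduct.rid k k' ((b.coord ⟨i, hsub i.2⟩).lTensor k' z)) h0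
  simp only [map_sum, LinearMap.lTensor_tmul, TensorProduct.rid_tmul, map_zero] at hi
  have hcoord : ∀ j : (↑s : Set K), b.coord ⟨i, hsub i.2⟩ (j : K) = if j = i then 1 else 0 := by
    intro j
    have hb : b ⟨j, hsub j.2⟩ = (j : K) := Module.Basis.extend_apply_self hs _
    conv_lhs => arg 2; rw [← hb]
    rw [Module.Basis.coord_apply, Module.Basis.repr_self]
    rcases eq_or_ne j i with rfl | hne
    · rw [if_pos rfl, Finsupp.single_eq_same]
    · rw [if_neg hne, Finsupp.single_eq_of_ne]
      intro h
      exact hne (Subtype.ext (congrArg Subtype.val h).symm)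
  simp only [hcoord, ite_smul, one_smul, zero_smul, Finset.sum_ite_eq', Finset.mem_univ, if_true] at hi
  have hαi : α i = 0 := congrArg Subtype.val hi
  have h := hα i
  rw [hαi, zero_pow hp.out.ne_zero] at h
  exact (map_eq_zero _).1 h.symm

theorem exists_separating (hK : IsFunctionField k K) (hg : IsGeometric k K) :
    ∃ t : K, Transcendental k t ∧
      FiniteDimensional (IntermediateField.adjoin k ({t} : Set K)) K ∧
      Algebra.IsSeparable (IntermediateField.adjoin k ({t} : Set K)) K := by
  obtain ⟨x, hx, hfin⟩ := hK.1
  have : Algebra.EssFiniteType k (IntermediateField.adjoin k ({x} : Set K)) :=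
    IntermediateField.essFiniteType_iff.2 (IntermediateField.fg_adjoin_finset {x} |> fun h => by simpa using h)
  have : Algebra.EssFiniteType k K :=
    Algebra.EssFiniteType.comp k (IntermediateField.adjoin k ({x} : Set K)) K
  have hbx : IsTranscendenceBasis k (fun _ : Unit => x) := by
    have hind : AlgebraicIndependent k (fun _ : Unit => x) :=
      (algebraicIndependent_unique_type_iff).2 hx
    refine hind.isTranscendenceBasis_iff_isAlgebraic.2 ?_
    rw [Set.range_const]
    have : Algebra.IsAlgebraic (IntermediateField.adjoin k ({x} : Set K)) K :=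
      Algebra.IsAlgebraic.of_finite _ K
    exact IntermediateField.isAlgebraic_adjoin_iff_top.1 this
  have key : ∃ s : Finset K, IsTranscendenceBasis k ((↑) : s → K) ∧
      Algebra.IsSeparable (IntermediateField.adjoin k (s : Set K)) K := by
    rcases CharP.exists' k with h | ⟨p, hp, hpk⟩
    · exact exists_isTranscendenceBasis_and_isSeparable_of_perfectField k K
    · have : ExpChar k p := .prime hp.out
      exact exists_isTranscendenceBasis_and_isSeparable_of_linearIndepOn_pow_of_essFiniteType
        p hp.out fun s hs => linearIndepOn_pow_of_isGeometric hg p s hs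
  obtain ⟨s, hs, hsep⟩ := key
  have hcard : s.card = 1 := by
    have := hs.lift_cardinalMk_eq hbx
    simpa using this
  obtain ⟨t, rfl⟩ := Finset.card_eq_one.1 hcard
  rw [Finset.coe_singleton] at hsep
  have ht : Transcendental k t :=
    hs.1.transcendental ⟨t, Finset.mem_singleton_self t⟩
  exact ⟨t, ht, (FF30.FF.of_isFunctionField hK).finiteDimensional_adjoin ht, hsep⟩

end Sep

section Deriv

variable {k K L M : Type*} [Field k] [Field K] [Algebra k K] [Field L] [AddCommGroup M] [Module L M]

/-- A derivation along `ψ` that kills the constants and an element over which `K` is separable is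
zero. -/
theorem derivation_eq_zero {t : K}
    [Algebra.IsSeparable (IntermediateField.adjoin k ({t} : Set K)) K] (ψ : K →+* L) (δ : K →+ M)
    (hmul : ∀ a b, δ (a * b) = ψ a • δ b + ψ b • δ a) (hc : ∀ c : k, δ (algebraMap k K c) = 0)
    (ht : δ t = 0) (z : K) : δ z = 0 := by
  have h1 : δ 1 = 0 := by simpa using hc 1
  have hM : ∀ y ∈ IntermediateField.adjoin k ({t} : Set K), δ y = 0 := by
    intro y hy
    induction hy using IntermediateField.adjoin_induction with
    | mem w hw => obtain rfl : w = t := hw; exact ht
    | algebraMap c => exact hc c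
    | add a b _ _ ha hb => rw [map_add, ha, hb, add_zero]
    | mul a b _ _ ha hb => rw [hmul, ha, hb, smul_zero, smul_zero, add_zero]
    | inv a _ ha =>
      rcases eq_or_ne a 0 with rfl | hne
      · simp
      have h := hmul a a⁻¹
      rw [mul_inv_cancel₀ hne, h1, ha, smul_zero, add_zero] at h
      exact (smul_eq_zero.1 h.symm).resolve_left ((map_ne_zero ψ).2 hne)
  have key : ∀ q : Polynomial (IntermediateField.adjoin k ({t} : Set K)),
      δ (Polynomial.aeval z q) = ψ (Polynomial.aeval z q.derivative) • δ z := by
    intro q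
    induction q using Polynomial.induction_on with
    | C a => simpa using hM _ a.2
    | add p q hp hq => simp only [map_add, hp, hq, add_smul]
    | monomial n a ih =>
      rw [pow_succ, ← mul_assoc]
      generalize Polynomial.C a * Polynomial.X ^ n = r at ih ⊢
      rw [Polynomial.derivative_mul, Polynomial.derivative_X, mul_one, map_mul, Polynomial.aeval_X,
        hmul, ih, map_add, map_mul (Polynomial.aeval z), Polynomial.aeval_X, map_add ψ, map_mul,
        add_smul, smul_smul, add_comm, mul_comm (ψ z)]
  have h := key (minpoly _ z)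
  rw [minpoly.aeval, map_zero] at h
  exact (smul_eq_zero.1 h.symm).resolve_left ((map_ne_zero ψ).2
    ((Algebra.IsSeparable.isSeparable _ z).aeval_derivative_ne_zero (minpoly.aeval _ _)))

variable {H : K →ₐ[k] PowerSeries K}

theorem hasseD_one_mul {t : K} (hH : LocRes.IsHasseFamily t H) (a b : K) :
    LocRes.hasseD H 1 (a * b) = a * LocRes.hasseD H 1 b + b * LocRes.hasseD H 1 a := by
  simp only [LocRes.hasseD_apply, map_mul, PowerSeries.coeff_one_mul, hH.2]
  ring

theorem hasseD_one_self {t : K} (hH : LocRes.IsHasseFamily t H) : LocRes.hasseD H 1 t = 1 := by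
  simp [LocRes.hasseD_apply, hH.1]

theorem hasseD_one_algebraMap (c : k) : LocRes.hasseD H 1 (algebraMap k K c) = 0 := by
  simp [LocRes.hasseD_apply, PowerSeries.algebraMap_apply]

/-- Every derivation along `ψ` is a multiple of `hasseD H 1`. -/
theorem derivation_eq_smul {t : K}
    [Algebra.IsSeparable (IntermediateField.adjoin k ({t} : Set K)) K] (hH : LocRes.IsHasseFamily t H)
    (ψ : K →+* L) (δ : K →+ M)
    (hmul : ∀ a b, δ (a * b) = ψ a • δ b + ψ b • δ a) (hc : ∀ c : k, δ (algebraMap k K c) = 0)
    (z : K) : δ z = ψ (LocRes.hasseD H 1 z) • δ t := by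
  let d : K →+ M := δ - AddMonoidHom.mk' (fun w => ψ (LocRes.hasseD H 1 w) • δ t) fun a b => by
    simp only [LocRes.hasseD_apply, map_add, add_smul]
  have hd : ∀ w, d w = δ w - ψ (LocRes.hasseD H 1 w) • δ t := fun w => rfl
  refine sub_eq_zero.1 ((hd z).symm.trans (derivation_eq_zero (k := k) (t := t) ψ d ?_ ?_ ?_ z))
  · intro a b
    rw [hd, hd, hd, hmul, hasseD_one_mul hH, map_add, map_mul, map_mul, add_smul, smul_sub, smul_sub,
      smul_smul, smul_smul]
    abel
  · intro c
    rw [hd, hc, hasseD_one_algebraMap, map_zero, zero_smul, sub_zero]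
  · rw [hd, hasseD_one_self hH, map_one, one_smul, sub_self]

end Deriv

end Groth.Agent.Exp31
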