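import Groth.Prelude.Def_LocRes

/-! Orders of derivatives of Laurent series. -/

namespace Groth.Agent.Exp31

open WithZero
open scoped LaurentSeries

variable {F : Type*} [Field F] {f g : F⸨X⸩} {e : ℤ}

theorem val_le_iff : Valued.v f ≤ exp (-e) ↔ ∀ n : ℤ, n < e → f.coeff n = 0 :=
  LaurentSeries.valuation_le_iff_coeff_lt_eq_zero F

theorem coeff_ne_zero_of_val_eq (h : Valued.v f = exp (-e)) : f.coeff e ≠ 0 := by
  intro h0
  have : Valued.v f ≤ exp (-(e + 1)) := val_le_iff.2 fun n hn => by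
    rcases eq_or_lt_of_le (Int.lt_add_one_iff.1 hn) with rfl | hlt
    · exact h0
    · exact val_le_iff.1 h.le n hlt
  rw [h, exp_le_exp] at this
  omega

theorem val_eq_of_coeff (h : ∀ n : ℤ, n < e → f.coeff n = 0) (h0 : f.coeff e ≠ 0) :
    Valued.v f = exp (-e) := by
  refine le_antisymm (val_le_iff.2 h) (le_of_not_gt fun hlt => h0 ?_)
  rcases eq_or_ne (Valued.v f) 0 with hf | hf
  · rw [Valuation.zero_iff] at hf; simp [hf]
  · rw [← exp_log hf, exp_lt_exp] at hlt
    exact (val_le_iff (e := e + 1)).1 (by rw [← exp_log hf, exp_le_exp]; omega) e (by omega)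

theorem val_D_le (h : Valued.v f ≤ exp (-e)) : Valued.v (LocRes.D F f) ≤ exp (-(e - 1)) :=
  val_le_iff.2 fun n hn => by rw [LocRes.D_coeff, val_le_iff.1 h (n + 1) (by omega), smul_zero]

theorem val_D_eq (h : Valued.v f = exp (-e)) (he : (e : F) ≠ 0) :
    Valued.v (LocRes.D F f) = exp (-(e - 1)) := by
  refine val_eq_of_coeff (val_le_iff.1 (val_D_le h.le)) ?_
  rw [LocRes.D_coeff, sub_add_cancel, zsmul_eq_mul]
  exact mul_ne_zero he (coeff_ne_zero_of_val_eq h)

theorem val_D_le_of_cast_eq_zero (h : Valued.v f ≤ exp (-e)) (he : (e : F) = 0) :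
    Valued.v (LocRes.D F f) ≤ exp (-e) :=
  val_le_iff.2 fun n hn => by
    rcases eq_or_lt_of_le (show n + 1 ≤ e by omega) with h1 | h1
    · rw [LocRes.D_coeff, zsmul_eq_mul, h1, he, zero_mul]
    · rw [LocRes.D_coeff, val_le_iff.1 h (n + 1) h1, smul_zero]

/-- The coefficient of `f * g` at the sum of the lowest degrees. -/
theorem exists_coeff_mul_eq (hg : g ≠ 0) (n : ℤ) :
    ∃ (m : ℤ) (u : F), u ≠ 0 ∧ ∀ h : F⸨X⸩, (∀ i : ℤ, i < n - m → h.coeff i = 0) →
      (h * g).coeff n = h.coeff (n - m) * u := by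
  refine ⟨g.order, g.coeff g.order, HahnSeries.coeff_order_eq_zero.not.2 hg, fun h hh => ?_⟩
  rw [HahnSeries.coeff_mul]
  rw [Finset.sum_eq_single (n - g.order, g.order)]
  · rintro ⟨i, j⟩ hij hne
    rw [Finset.mem_antidiagonal] at hij
    obtain ⟨hi, hj, hs⟩ := hij
    have : g.order ≤ j := HahnSeries.order_le_of_coeff_ne_zero hj
    exact absurd (hh i (lt_of_le_of_ne (by simp only at hs ⊢; omega) fun h' =>
      hne (Prod.ext h' (by simp only at hs ⊢; omega)))) hi
  · intro hn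
    rw [Finset.mem_antidiagonal] at hn
    by_cases h0 : h.coeff (n - g.order) = 0
    · rw [h0, zero_mul]
    · exact absurd ⟨h0, HahnSeries.coeff_order_eq_zero.not.2 hg, sub_add_cancel _ _⟩ hn

end Groth.Agent.Exp31
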