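import Groth.Agent.Exp31.Separating
import Groth.Agent.Exp31.Laurent
import Groth.Agent.FF30.Ext
import Mathlib.RingTheory.Unramified.Field
import Mathlib.RingTheory.Trace.Basic

/-! Expansions at a place and differentiation. -/

namespace Groth.Agent.Exp31

open FunFld WithZero
open scoped LaurentSeries

variable {k K F : Type*} [Field k] [Field K] [Algebra k K] [Field F] [Algebra k F]
variable {P : Place k K} {φ : K →ₐ[k] F⸨X⸩}

theorem D_C (c : F) : LocRes.D F (HahnSeries.C c) = 0 := LocRes.derivative_C F c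

theorem exists_unif (hφ : LocRes.IsExpansionAt P.1 φ) :
    ∃ τ : K, P.1 τ = exp (-1) ∧ Valued.v (LocRes.D F (φ τ)) = 1 := by
  obtain ⟨τ, hτ⟩ := hφ.2.2
  refine ⟨τ, hτ, ?_⟩
  have := val_D_eq (e := 1) ((hφ.1 τ).trans hτ) (by simp)
  simpa using this

theorem val_hom_ord (hφ : LocRes.IsExpansionAt P.1 φ) {z : K} (hz : z ≠ 0) :
    Valued.v (φ z) = exp (-P.ord z) := by rw [hφ.1, FF30.val_eq P hz]

section Param

variable {t : K} [Algebra.IsSeparable (IntermediateField.adjoin k ({t} : Set K)) K]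
  {H : K →ₐ[k] PowerSeries K}

theorem isAlgebraic_of_sep : Algebra.IsAlgebraic (IntermediateField.adjoin k ({t} : Set K)) K :=
  inferInstance

theorem D_param_ne_zero (hφ : LocRes.IsExpansionAt P.1 φ) (hH : LocRes.IsHasseFamily t H) :
    LocRes.D F (φ t) ≠ 0 := by
  obtain ⟨τ, -, hτ⟩ := exists_unif hφ
  intro h
  rw [D_expansion φ hH τ, h, mul_zero, map_zero] at hτ
  exact zero_ne_one hτ

theorem D_eq_zero_iff (hφ : LocRes.IsExpansionAt P.1 φ) (hH : LocRes.IsHasseFamily t H) (z : K) :
    LocRes.D F (φ z) = 0 ↔ LocRes.hasseD H 1 z = 0 := by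
  rw [D_expansion φ hH z, mul_eq_zero, or_iff_left (D_param_ne_zero hφ hH), map_eq_zero]

omit [Field F] in
theorem kaehlerD_eq (hH : LocRes.IsHasseFamily t H) (z : K) :
    KaehlerDifferential.D k K z = LocRes.hasseD H 1 z • KaehlerDifferential.D k K t :=
  derivation_eq_smul (k := k) hH (RingHom.id K) (KaehlerDifferential.D k K).toLinearMap.toAddMonoidHom
    (fun a b => (KaehlerDifferential.D k K).leibniz a b)
    (fun c => (KaehlerDifferential.D k K).map_algebraMap c) z

theorem D_ne_zero_of_kaehler (hφ : LocRes.IsExpansionAt P.1 φ) (hH : LocRes.IsHasseFamily t H)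
    {x : K} (hx : KaehlerDifferential.D k K x ≠ 0) : LocRes.D F (φ x) ≠ 0 := fun h => hx <| by
  rw [kaehlerD_eq hH x, (D_eq_zero_iff hφ hH x).1 h, zero_smul]

include t H in
/-- The coefficient field of an expansion has no nonzero derivation over `k`. -/
theorem derivation_eq_zero_coeffField (hφ : LocRes.IsExpansionAt P.1 φ)
    (hH : LocRes.IsHasseFamily t H) (δ : Derivation k F F) : δ = 0 := by
  have hcoef : ∀ f g : F⸨X⸩, ((f * g).map δ.toLinearMap.toAddMonoidHom : F⸨X⸩) =
      f * (g.map δ.toLinearMap.toAddMonoidHom : F⸨X⸩) + g * (f.map δ.toLinearMap.toAddMonoidHom) := by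
    intro f g
    have key : ∀ f g : F⸨X⸩, ∀ n, (f * g.map δ.toLinearMap.toAddMonoidHom : F⸨X⸩).coeff n =
        ∑ ij ∈ Finset.antidiagonal (s := f.support) (t := g.support) f.isPWO_support g.isPWO_support n,
          f.coeff ij.1 * δ (g.coeff ij.2) := fun f g n => by
      rw [HahnSeries.coeff_mul_right' g.isPWO_support]
      · rfl
      · intro i hi h0
        exact hi (by simp [h0])
    have key' : ∀ n, (g * f.map δ.toLinearMap.toAddMonoidHom : F⸨X⸩).coeff n =
        ∑ ij ∈ Finset.antidiagonal (s := f.support) (t := g.support) f.isPWO_support g.isPWO_support n,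
          g.coeff ij.2 * δ (f.coeff ij.1) := fun n => by
      rw [mul_comm, HahnSeries.coeff_mul_left' f.isPWO_support]
      · exact Finset.sum_congr rfl fun ij _ => mul_comm _ _
      · intro i hi h0
        exact hi (by simp [h0])
    refine HahnSeries.ext (funext fun n => ?_)
    rw [HahnSeries.coeff_add, key, key']
    show δ ((f * g).coeff n) = _
    rw [HahnSeries.coeff_mul]
    rw [map_sum, ← Finset.sum_add_distrib]
    refine Finset.sum_congr rfl fun ij _ => ?_
    rw [δ.leibniz, smul_eq_mul, smul_eq_mul]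
  let d : K →+ F⸨X⸩ := AddMonoidHom.mk' (fun z => (φ z).map δ.toLinearMap.toAddMonoidHom) fun a b => by
    ext n
    simp
  have hd : ∀ z, d z = φ (LocRes.hasseD H 1 z) * d t := by
    intro z
    refine derivation_eq_smul (k := k) hH φ.toRingHom d (fun a b => ?_) (fun c => ?_) z
    · show (φ (a * b)).map _ = _
      rw [map_mul, hcoef]
      rfl
    · show (φ (algebraMap k K c)).map _ = _
      ext n
      rw [LocRes.map_algebraMap]
      show δ _ = _
      rw [HahnSeries.C_apply, HahnSeries.coeff_single]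
      split <;> simp
  obtain ⟨τ, hτ, hτ1⟩ := exists_unif hφ
  have hv : ∀ z, P.1 z ≤ 1 → Valued.v (LocRes.D F (φ z)) ≤ exp (1 : ℤ) := fun z hz => by
    have := val_D_le (e := 0) (f := φ z) (by rwa [hφ.1, neg_zero, exp_zero])
    simpa using this
  ext a
  obtain ⟨f, hf, hfa⟩ := hφ.2.1 a
  -- `d = h • D`, with `h` of positive order
  set h := d t / LocRes.D F (φ t) with hh
  have hprop : ∀ z, d z = h * LocRes.D F (φ z) := fun z => by
    rw [hd, D_expansion φ hH z, hh, div_mul_eq_mul_div, eq_div_iff (D_param_ne_zero hφ hH)]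
    ring
  have hh1 : Valued.v h ≤ exp (-1 : ℤ) := by
    have h1 : Valued.v (d τ) ≤ exp (-(1 : ℤ)) := val_le_iff.2 fun n hn => by
      show δ ((φ τ).coeff n) = 0
      rw [val_le_iff.1 ((hφ.1 τ).trans hτ).le n hn, map_zero]
    rwa [hprop, map_mul, hτ1, mul_one] at h1
  have h2 : Valued.v (d f) ≤ exp (-(1 : ℤ)) := by
    rw [hprop, map_mul]
    have h3 : Valued.v (LocRes.D F (φ f)) ≤ exp (-(0 : ℤ)) := val_le_iff.2 fun n hn => by
      rw [LocRes.D_coeff]
      rcases eq_or_ne n (-1) with rfl | hne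
      · simp
      · rw [(val_le_iff (e := 0)).1 (by rwa [hφ.1, neg_zero, exp_zero]) (n + 1) (by omega), smul_zero]
    refine (mul_le_mul' hh1 h3).trans (le_of_eq ?_)
    simp
  have := val_le_iff.1 h2 0 one_pos
  show δ a = 0
  rwa [← hfa]

end Param

theorem exists_hasse (hK : IsFunctionField k K) (hg : IsGeometric k K) :
    ∃ (t : K) (H : K →ₐ[k] PowerSeries K),
      Algebra.IsSeparable (IntermediateField.adjoin k ({t} : Set K)) K ∧ LocRes.IsHasseFamily t H := by
  obtain ⟨t, ht, hfin, hsep⟩ := exists_separating hK hg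
  obtain ⟨H, hH⟩ := exists_isHasseFamily t ht
  exact ⟨t, H, hsep, hH⟩

end Groth.Agent.Exp31
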