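import Groth.Agent.Exp31.Local
import Groth.Prelude.Def_W4bk4goldsch23Ext

/-! The different exponent computed through expansions. -/

namespace Groth.Agent.Exp31

open FunFld WithZero
open scoped LaurentSeries

variable {k K K' F F' : Type*} [Field k] [Field K] [Field K'] [Algebra k K] [Algebra K K']
  [Algebra k K'] [IsScalarTower k K K'] [Field F] [Algebra k F] [Field F'] [Algebra k F']
  {P : Place k K} {Q : Place k K'} {e : ℕ} {φ : K →ₐ[k] F⸨X⸩} {ψ : K' →ₐ[k] F'⸨X⸩}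

theorem vDiff_one (φ : K →ₐ[k] F⸨X⸩) (x : K) :
    LocRes.vDiff φ 1 x = Valued.v (LocRes.D F (φ x)) := by
  rw [LocRes.vDiff, map_one, one_mul]

variable {t : K} [Algebra.IsSeparable (IntermediateField.adjoin k ({t} : Set K)) K]
  {H : K →ₐ[k] PowerSeries K}

theorem ordDiff_below (hφ : LocRes.IsExpansionAt P.1 φ) (hH : LocRes.IsHasseFamily t H) {x : K}
    (hx : LocRes.vDiff φ 1 x ≠ 0) :
    LocRes.ordDiff φ 1 x = P.ord (LocRes.hasseD H 1 x) + LocRes.ordDiff φ 1 t := by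
  rw [vDiff_one, D_expansion φ hH x, map_mul, mul_ne_zero_iff, hφ.1] at hx
  rw [LocRes.ordDiff, LocRes.ordDiff, vDiff_one, vDiff_one, D_expansion φ hH x, map_mul, hφ.1,
    log_mul hx.1 hx.2, neg_add, Place.ord]

theorem ordDiff_above (hψ : LocRes.IsExpansionAt Q.1 ψ) (he : IsOverWith Q P e)
    (hH : LocRes.IsHasseFamily t H) {x : K}
    (hx : LocRes.vDiff ψ 1 (algebraMap K K' x) ≠ 0) :
    LocRes.ordDiff ψ 1 (algebraMap K K' x) =
      e * P.ord (LocRes.hasseD H 1 x) + LocRes.ordDiff ψ 1 (algebraMap K K' t) := by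
  have h : LocRes.D F' (ψ (algebraMap K K' x)) =
      ψ (algebraMap K K' (LocRes.hasseD H 1 x)) * LocRes.D F' (ψ (algebraMap K K' t)) :=
    D_expansion (ψ.comp (IsScalarTower.toAlgHom k K K')) hH x
  rw [vDiff_one, h, map_mul, mul_ne_zero_iff, hψ.1, he] at hx
  rw [LocRes.ordDiff, LocRes.ordDiff, vDiff_one, vDiff_one, h, map_mul, hψ.1, he,
    log_mul hx.1 hx.2, log_pow, neg_add, Place.ord, nsmul_eq_mul, mul_neg]

theorem diffExp_eq (hφ : LocRes.IsExpansionAt P.1 φ) (hψ : LocRes.IsExpansionAt Q.1 ψ)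
    (he : IsOverWith Q P e) (hH : LocRes.IsHasseFamily t H) {x : K}
    (hx : LocRes.vDiff φ 1 x ≠ 0) (hx' : LocRes.vDiff ψ 1 (algebraMap K K' x) ≠ 0) :
    LocRes.diffExp φ ψ e x = LocRes.diffExp φ ψ e t := by
  rw [LocRes.diffExp, LocRes.diffExp, ordDiff_below hφ hH hx, ordDiff_above hψ he hH hx']
  ring

theorem diffExp_cases (hφ : LocRes.IsExpansionAt P.1 φ) (hψ : LocRes.IsExpansionAt Q.1 ψ)
    (he : IsOverWith Q P e) (hH : LocRes.IsHasseFamily t H) {x : K}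
    (hx : LocRes.vDiff φ 1 x ≠ 0) (hx' : LocRes.vDiff ψ 1 (algebraMap K K' x) ≠ 0) :
    ((e : F') ≠ 0 → LocRes.diffExp φ ψ e x = (e : ℤ) - 1) ∧
    ((e : F') = 0 → (e : ℤ) ≤ LocRes.diffExp φ ψ e x) := by
  obtain ⟨τ, hτ, hτ1⟩ := exists_unif hφ
  have h1 : LocRes.vDiff φ 1 τ ≠ 0 := by rw [vDiff_one, hτ1]; exact one_ne_zero
  have h2 : LocRes.vDiff ψ 1 (algebraMap K K' τ) ≠ 0 := by
    have hDt : LocRes.D F' (ψ (algebraMap K K' t)) ≠ 0 := by
      intro h0
      refine hx' ?_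
      rw [vDiff_one, show ψ (algebraMap K K' x) = (ψ.comp (IsScalarTower.toAlgHom k K K')) x from rfl,
        D_expansion (ψ.comp (IsScalarTower.toAlgHom k K K')) hH x]
      show Valued.v (_ * LocRes.D F' (ψ (algebraMap K K' t))) = 0
      rw [h0, mul_zero, map_zero]
    rw [vDiff_one, show ψ (algebraMap K K' τ) = (ψ.comp (IsScalarTower.toAlgHom k K K')) τ from rfl,
      D_expansion (ψ.comp (IsScalarTower.toAlgHom k K K')) hH τ, map_mul, mul_ne_zero_iff]
    refine ⟨?_, (Valuation.ne_zero_iff _).2 hDt⟩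
    rw [Valuation.ne_zero_iff, map_ne_zero]
    intro h0
    rw [D_expansion φ hH τ, h0, map_zero, zero_mul, map_zero] at hτ1
    exact zero_ne_one hτ1
  rw [diffExp_eq hφ hψ he hH hx hx', ← diffExp_eq hφ hψ he hH h1 h2]
  have hb : LocRes.ordDiff φ 1 τ = 0 := by rw [LocRes.ordDiff, vDiff_one, hτ1, log_one, neg_zero]
  have hv : Valued.v (ψ (algebraMap K K' τ)) = exp (-(e : ℤ)) := by
    rw [hψ.1, he, hτ, ← exp_nsmul]; simp
  rw [LocRes.diffExp, hb, mul_zero, sub_zero, LocRes.ordDiff]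
  rw [vDiff_one] at h2 ⊢
  constructor
  · intro h
    rw [val_D_eq hv (by simpa using h), log_exp, neg_neg]
  · intro h
    have h3 := val_D_le_of_cast_eq_zero hv.le (by simpa using h)
    rw [← exp_log h2, exp_le_exp] at h3
    omega

end Groth.Agent.Exp31
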