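import Groth.Prelude.Def_W4bk4goldsch23FF
import Groth.Prelude.Def_LocRes
import Groth.Agent.FF30.Basic
import Mathlib.RingTheory.PowerSeries.Trunc
import Mathlib.RingTheory.Valuation.ValuationRing

/-! Laurent expansions at a rational place in a given local parameter. -/

namespace Groth.Agent.Exp31

open FunFld WithZero Polynomial
open scoped LaurentSeries

variable {k K : Type*} [Field k] [Field K] [Algebra k K]

/-- Every residue class at `P` contains a constant. -/
def IsRational (P : Place k K) : Prop :=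
  ∀ y : K, P.1 y ≤ 1 → ∃ c : k, P.1 (y - algebraMap k K c) < 1

variable {P : Place k K} {t : K}

theorem val_aeval_le_of_dvd (ht : P.1 t = exp (-1)) {n : ℕ} {p : k[X]} (h : X ^ n ∣ p) :
    P.1 (aeval t p) ≤ exp (-(n : ℤ)) := by
  obtain ⟨q, rfl⟩ := h
  rw [map_mul, map_mul, map_pow, map_pow, aeval_X, ht, ← exp_nsmul,
    show n • (-1 : ℤ) = -(n : ℤ) by simp]
  refine mul_le_of_le_one_right' ?_
  rw [aeval_eq_sum_range]
  refine P.1.map_sum_le fun i _ => ?_
  rw [Algebra.smul_def, map_mul, map_pow, ht]
  exact mul_le_one' (P.2.1 _) (pow_le_one₀ zero_le (by rw [← exp_zero, exp_le_exp]; omega))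

theorem val_aeval_le_one' (ht : P.1 t = exp (-1)) (p : k[X]) : P.1 (aeval t p) ≤ 1 := by
  simpa using val_aeval_le_of_dvd (n := 0) ht (p := p) (by simp)

theorem eq_zero_of_val_aeval_le (ht : P.1 t = exp (-1)) {n : ℕ} {p : k[X]}
    (hp : ∀ i, n ≤ i → p.coeff i = 0) (h : P.1 (aeval t p) ≤ exp (-(n : ℤ))) : p = 0 := by
  by_contra hp0
  set m := p.natTrailingDegree
  have hm : m < n := by
    by_contra hlt
    exact coeff_natTrailingDegree_ne_zero.2 hp0 (hp _ (by omega))
  have hdvd : X ^ (m + 1) ∣ p - C (p.coeff m) * X ^ m := by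
    rw [X_pow_dvd_iff]
    intro i hi
    rw [coeff_sub, coeff_C_mul, coeff_X_pow]
    rcases eq_or_ne i m with rfl | hne
    · simp
    · rw [if_neg hne, mul_zero, sub_zero]
      exact coeff_eq_zero_of_lt_natTrailingDegree (by omega)
  have h1 := val_aeval_le_of_dvd ht hdvd
  have h2 : P.1 (aeval t (C (p.coeff m) * X ^ m)) = exp (-(m : ℤ)) := by
    rw [map_mul, map_mul, aeval_C, map_pow, map_pow, aeval_X, ht, ← exp_nsmul,
      FF30.val_algebraMap P (coeff_natTrailingDegree_ne_zero.2 hp0), one_mul]
    simp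
  have h3 : P.1 (aeval t p) = exp (-(m : ℤ)) := by
    rw [← sub_add_cancel p (C (p.coeff m) * X ^ m), map_add, P.1.map_add_eq_of_lt_right, h2]
    rw [h2]
    exact h1.trans_lt (exp_lt_exp.2 (by omega))
  rw [h3, exp_le_exp] at h
  omega

/-- `F` is the expansion of `z` in powers of `t`. -/
def IsExp (P : Place k K) (t z : K) (F : PowerSeries k) : Prop :=
  ∀ n : ℕ, P.1 (z - aeval t (F.trunc n)) ≤ exp (-(n : ℤ))

theorem IsExp.unique (ht : P.1 t = exp (-1)) {z : K} {F G : PowerSeries k} (hF : IsExp P t z F)
    (hG : IsExp P t z G) : F = G := by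
  ext n
  have h0 : F.trunc (n + 1) - G.trunc (n + 1) = 0 := by
    refine eq_zero_of_val_aeval_le ht (n := n + 1) (fun i hi => ?_) ?_
    · rw [Polynomial.coeff_sub, PowerSeries.coeff_trunc, PowerSeries.coeff_trunc,
        if_neg (by omega), if_neg (by omega), sub_zero]
    · rw [map_sub, show aeval t (F.trunc (n + 1)) - aeval t (G.trunc (n + 1)) =
        (z - aeval t (G.trunc (n + 1))) - (z - aeval t (F.trunc (n + 1))) by ring]
      exact (P.1.map_sub _ _).trans (max_le (hG _) (hF _))
  have := congrArg (fun p : k[X] => p.coeff n) h0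
  simpa [PowerSeries.coeff_trunc, sub_eq_zero] using this

theorem isExp_zero : IsExp P t 0 0 := fun n => by simp

theorem isExp_aeval (ht : P.1 t = exp (-1)) (p : k[X]) : IsExp P t (aeval t p) (p : PowerSeries k) := by
  intro n
  rw [← map_sub]
  refine val_aeval_le_of_dvd ht (X_pow_dvd_iff.2 fun i hi => ?_)
  rw [Polynomial.coeff_sub, PowerSeries.coeff_trunc, if_pos hi, Polynomial.coeff_coe, sub_self]

theorem IsExp.add {z w : K} {F G : PowerSeries k} (hF : IsExp P t z F) (hG : IsExp P t w G) :
    IsExp P t (z + w) (F + G) := by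
  intro n
  rw [map_add, map_add, add_sub_add_comm]
  exact (P.1.map_add _ _).trans (max_le (hF n) (hG n))

theorem IsExp.mul (ht : P.1 t = exp (-1)) {z w : K} {F G : PowerSeries k} (hz : P.1 z ≤ 1)
    (hF : IsExp P t z F) (hG : IsExp P t w G) : IsExp P t (z * w) (F * G) := by
  intro n
  have hdvd : X ^ n ∣ F.trunc n * G.trunc n - (F * G).trunc n := by
    rw [X_pow_dvd_iff]
    intro i hi
    rw [Polynomial.coeff_sub, PowerSeries.coeff_trunc, if_pos hi, Polynomial.coeff_mul,
      PowerSeries.coeff_mul, sub_eq_zero]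
    refine Finset.sum_congr rfl fun p hp => ?_
    rw [Finset.HasAntidiagonal.mem_antidiagonal] at hp
    rw [PowerSeries.coeff_trunc, PowerSeries.coeff_trunc, if_pos (by omega), if_pos (by omega)]
  have e : z * w - aeval t ((F * G).trunc n) =
      z * (w - aeval t (G.trunc n)) + (z - aeval t (F.trunc n)) * aeval t (G.trunc n) +
        aeval t (F.trunc n * G.trunc n - (F * G).trunc n) := by
    simp only [map_sub, map_mul]; ring
  rw [e]
  refine (P.1.map_add _ _).trans (max_le ((P.1.map_add _ _).trans (max_le ?_ ?_))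
    (val_aeval_le_of_dvd ht hdvd))
  · rw [map_mul]; exact (mul_le_of_le_one_left' hz).trans (hG n)
  · rw [map_mul]; exact (mul_le_of_le_one_right' (val_aeval_le_one' ht _)).trans (hF n)

theorem exists_next (hrat : IsRational P) (ht : P.1 t = exp (-1)) (z : P.O) :
    ∃ q : k × P.O, (z : K) = algebraMap k K q.1 + t * q.2 := by
  obtain ⟨c, hc⟩ := hrat z z.2
  have ht0 : t ≠ 0 := fun h0 => by rw [h0, map_zero] at ht; exact exp_ne_zero ht.symm
  have h1 : P.1 (((z : K) - algebraMap k K c) / t) ≤ 1 := by
    rw [map_div₀, ht, div_le_iff₀ exp_pos, one_mul]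
    exact FF30.val_lt_one_le P hc
  exact ⟨(c, ⟨_, h1⟩), by simp only; rw [mul_div_cancel₀ _ ht0]; ring⟩

theorem exists_isExp (hrat : IsRational P) (ht : P.1 t = exp (-1)) {z : K} (hz : P.1 z ≤ 1) :
    ∃ F, IsExp P t z F := by
  choose next hnext using exists_next hrat ht
  let r : ℕ → P.O := fun n => n.rec (⟨z, hz⟩ : P.O) fun _ y => (next y).2
  refine ⟨PowerSeries.mk fun n => (next (r n)).1, fun n => ?_⟩
  have key : z - aeval t ((PowerSeries.mk fun n => (next (r n)).1).trunc n) = t ^ n * (r n).1 := by
    induction n with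
    | zero => simp [r]
    | succ n ih =>
      rw [PowerSeries.trunc_succ, map_add, aeval_monomial, PowerSeries.coeff_mk, sub_add_eq_sub_sub, ih,
        hnext (r n)]
      show t ^ n * _ - _ = t ^ (n + 1) * ((next (r n)).2 : K)
      ring
  rw [key, map_mul, map_pow, ht, ← exp_nsmul]
  refine (mul_le_of_le_one_right' (r n).2).trans (le_of_eq ?_)
  simp

/-- The expansion homomorphism on the valuation ring. -/
noncomputable def expO (hrat : IsRational P) (ht : P.1 t = exp (-1)) : P.O →+* PowerSeries k where
  toFun z := (exists_isExp hrat ht z.2).choose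
  map_one' := IsExp.unique ht (exists_isExp hrat ht (1 : P.O).2).choose_spec
    (by simpa using isExp_aeval ht (1 : k[X]))
  map_mul' z w := IsExp.unique ht (exists_isExp hrat ht (z * w).2).choose_spec
    (IsExp.mul ht z.2 (exists_isExp hrat ht z.2).choose_spec (exists_isExp hrat ht w.2).choose_spec)
  map_zero' := IsExp.unique ht (exists_isExp hrat ht (0 : P.O).2).choose_spec (by simp [isExp_zero])
  map_add' z w := IsExp.unique ht (exists_isExp hrat ht (z + w).2).choose_spec
    (IsExp.add (exists_isExp hrat ht z.2).choose_spec (exists_isExp hrat ht w.2).choose_spec)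

theorem isExp_expO (hrat : IsRational P) (ht : P.1 t = exp (-1)) (z : P.O) :
    IsExp P t z (expO hrat ht z) :=
  (exists_isExp hrat ht z.2).choose_spec

theorem expO_injective (hrat : IsRational P) (ht : P.1 t = exp (-1)) :
    Function.Injective (expO hrat ht) := by
  rw [injective_iff_map_eq_zero]
  intro z hz
  have h := isExp_expO hrat ht z
  rw [hz] at h
  refine Subtype.ext (by_contra fun hne => ?_)
  have hb : ∀ n : ℕ, -(n : ℤ) ≥ -P.ord (z : K) := fun n => by
    have := h n
    simp only [map_zero, sub_zero] at this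
    rw [FF30.val_eq P (by simpa using hne), exp_le_exp] at this
    omega
  have := hb ((P.ord (z : K)).toNat + 1)
  omega

theorem expK_injective (hrat : IsRational P) (ht : P.1 t = exp (-1)) :
    Function.Injective ⇑((algebraMap (PowerSeries k) k⸨X⸩).comp (expO hrat ht)) := by
  rw [RingHom.coe_comp]
  exact (IsFractionRing.injective (PowerSeries k) k⸨X⸩).comp (expO_injective hrat ht)

/-- The expansion of `K` at a rational place. -/
noncomputable def expand (hrat : IsRational P) (ht : P.1 t = exp (-1)) : K →ₐ[k] k⸨X⸩ :=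
  { IsFractionRing.lift (A := P.O) (K := K)
      (g := (algebraMap (PowerSeries k) k⸨X⸩).comp (expO hrat ht))
      (expK_injective hrat ht) with
    commutes' := fun c => by
      show IsFractionRing.lift _ (algebraMap k K c) = _
      rw [show algebraMap k K c = algebraMap P.O K (algebraMap k P.O c) from rfl,
        IsFractionRing.lift_algebraMap, RingHom.comp_apply,
        IsExp.unique ht (isExp_expO hrat ht (algebraMap k P.O c))
          (show IsExp P t _ ((C c : k[X]) : PowerSeries k) by
            convert isExp_aeval ht (C c) using 1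
            rw [aeval_C]; rfl),
        Polynomial.coe_C, ← PowerSeries.algebraMap_eq]
      rfl }

theorem expand_coe (hrat : IsRational P) (ht : P.1 t = exp (-1)) (z : P.O) :
    expand hrat ht (z : K) = (expO hrat ht z : k⸨X⸩) :=
  IsFractionRing.lift_algebraMap (A := P.O) (K := K) (expK_injective hrat ht) z

theorem expand_param (hrat : IsRational P) (ht : P.1 t = exp (-1)) :
    expand hrat ht t = HahnSeries.single 1 1 := by
  have h : P.1 t ≤ 1 := by rw [ht, ← exp_zero, exp_le_exp]; omega
  have e := expand_coe hrat ht ⟨t, h⟩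
  rw [IsExp.unique ht (isExp_expO hrat ht ⟨t, h⟩)
    (show IsExp P t _ ((X : k[X]) : PowerSeries k) by
      convert isExp_aeval ht X using 1; rw [aeval_X]), Polynomial.coe_X] at e
  rw [show (⟨t, h⟩ : P.O).1 = t from rfl] at e
  rw [e, HahnSeries.ofPowerSeries_X]

theorem constantCoeff_expO (hrat : IsRational P) (ht : P.1 t = exp (-1)) (z : P.O) :
    P.1 ((z : K) - algebraMap k K (PowerSeries.constantCoeff (expO hrat ht z))) < 1 := by
  have h := isExp_expO hrat ht z 1
  rw [PowerSeries.trunc_one_left, aeval_C, PowerSeries.coeff_zero_eq_constantCoeff_apply] at h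
  refine h.trans_lt ?_
  rw [← exp_zero, exp_lt_exp]; omega

theorem isExpansionAt_expand (hrat : IsRational P) (ht : P.1 t = exp (-1)) :
    LocRes.IsExpansionAt P.1 (expand hrat ht) := by
  refine ⟨fun f => ?_, fun a => ⟨algebraMap k K a, P.2.1 a, ?_⟩, t, ht⟩
  · rcases eq_or_ne f 0 with rfl | hf
    · simp
    have ht0 : t ≠ 0 := fun h0 => by rw [h0, map_zero] at ht; exact exp_ne_zero ht.symm
    set n := P.ord f with hn
    have hu1 : P.1 (f / t ^ n) = 1 := by
      rw [map_div₀, map_zpow₀, ht, ← exp_zsmul, FF30.val_eq P hf, ← exp_sub, ← exp_zero]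
      congr 1; rw [smul_eq_mul]; omega
    have hc := constantCoeff_expO hrat ht ⟨_, hu1.le⟩
    have hne : PowerSeries.constantCoeff (expO hrat ht ⟨_, hu1.le⟩) ≠ 0 := fun h0 => by
      rw [h0, map_zero, sub_zero] at hc
      exact hc.ne hu1
    have hvu : Valued.v (expand hrat ht (f / t ^ n)) = 1 := by
      rw [show f / t ^ n = ((⟨_, hu1.le⟩ : P.O) : K) from rfl, expand_coe]
      set F := expO hrat ht ⟨_, hu1.le⟩
      refine le_antisymm ?_ (le_of_not_gt fun hlt => hne ?_)
      · have h0 := (LaurentSeries.intValuation_le_iff_coeff_lt_eq_zero k (d := 0) F).2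
          (fun m hm => absurd hm (by omega))
        simpa using h0
      · have h1 : Valued.v (F : k⸨X⸩) ≤ exp (-((1 : ℕ) : ℤ)) := by
          rcases eq_or_ne (Valued.v (F : k⸨X⸩)) 0 with h0 | h0
          · rw [h0]; exact zero_le
          · rw [← exp_log h0, ← exp_zero, exp_lt_exp] at hlt
            rw [← exp_log h0, exp_le_exp]; omega
        rw [← PowerSeries.coeff_zero_eq_constantCoeff_apply]
        exact (LaurentSeries.intValuation_le_iff_coeff_lt_eq_zero k F).1 h1 0 one_pos
    have e : f = f / t ^ n * t ^ n := (div_mul_cancel₀ _ (zpow_ne_zero _ ht0)).symm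
    rw [congrArg (fun x => expand hrat ht x) e, map_mul, map_mul, hvu, map_zpow₀, map_zpow₀,
      expand_param, LaurentSeries.valuation_single_zpow, one_mul]
    conv_rhs => rw [e, map_mul, hu1, one_mul, map_zpow₀, ht]
  · rw [LocRes.map_algebraMap]
    simp

end Groth.Agent.Exp31
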