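import Groth.Agent.Exp31.Local
import Groth.Agent.Exp31.Expansion
import Groth.Agent.FF30.Ramif
import Groth.Agent.FF30.AD
import Groth.Agent.LLS31.Basic
import Mathlib.Algebra.Polynomial.Div

/-! Almost all places have `t - c` as a local parameter; Wronskians in characteristic zero. -/

namespace Groth.Agent.Exp31

open FunFld WithZero Polynomial
open scoped LaurentSeries

variable {k K : Type*} [Field k] [Field K] [Algebra k K]

theorem isRational_of_isAlgClosed [IsAlgClosed k] (hK : IsFunctionField k K) (P : Place k K) :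
    IsRational P := fun _ hy => LLS31.exists_val_sub_lt_one hK P hy

theorem val_aeval_of_sub_lt {P : Place k K} {x : K} {c : k} (hc : P.1 (x - algebraMap k K c) < 1)
    (p : k[X]) (hp : p ≠ 0) :
    P.1 (aeval x p) = P.1 (x - algebraMap k K c) ^ p.rootMultiplicity c := by
  obtain ⟨q, hq, hqc⟩ := exists_eq_pow_rootMultiplicity_mul_and_not_dvd p hp c
  have hx : P.1 x ≤ 1 := by
    rw [← sub_add_cancel x (algebraMap k K c)]
    exact (P.1.map_add _ _).trans (max_le hc.le (P.2.1 c))
  have hqx : P.1 (aeval x q) = 1 := by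
    have hne : q.eval c ≠ 0 := fun h => hqc (dvd_iff_isRoot.2 h)
    obtain ⟨r, hr⟩ := X_sub_C_dvd_sub_C_eval (a := c) (p := q)
    rw [sub_eq_iff_eq_add.1 hr, map_add, map_mul, aeval_C, P.1.map_add_eq_of_lt_right,
      FF30.val_algebraMap P hne]
    rw [FF30.val_algebraMap P hne, map_mul, map_sub, aeval_X, aeval_C]
    have hr1 : P.1 (aeval x r) ≤ 1 := by
      rw [aeval_eq_sum_range]
      refine P.1.map_sum_le fun i _ => ?_
      rw [Algebra.smul_def, map_mul, map_pow]
      exact mul_le_one' (P.2.1 _) (pow_le_one₀ zero_le hx)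
    exact (mul_le_of_le_one_right' hr1).trans_lt hc
  conv_lhs => rw [hq]
  rw [map_mul, map_mul, hqx, mul_one, map_pow, map_pow, map_sub, aeval_X, aeval_C]

/-- Almost every place is unramified over `k(t)` and has finite `t`: then `t - c` is a parameter. -/
theorem exists_finite_forall_param [IsAlgClosed k] (hK : IsFunctionField k K) {t : K}
    (ht : Transcendental k t) [FiniteDimensional (IntermediateField.adjoin k ({t} : Set K)) K]
    [Algebra.IsSeparable (IntermediateField.adjoin k ({t} : Set K)) K] :
    ∃ B : Set (Place k K), B.Finite ∧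
      ∀ Q ∉ B, ∃ c : k, Q.1 (t - algebraMap k K c) = exp (-1) := by
  set M := IntermediateField.adjoin k ({t} : Set K) with hM
  have hFM : FF30.FF k M := by
    refine ⟨⟨t, IntermediateField.mem_adjoin_simple_self k t⟩, ?_, ?_⟩
    · exact fun h => ht (h.algebraMap (A := K))
    · have htop : IntermediateField.adjoin k ({⟨t, IntermediateField.mem_adjoin_simple_self k t⟩} : Set M) = ⊤ := by
        refine (IntermediateField.map_injective M.val ?_)
        rw [IntermediateField.adjoin_map, ← AlgHom.fieldRange_eq_map]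
        simp [hM]
      rw [htop]
      exact Module.Finite.of_surjective (Algebra.linearMap (⊤ : IntermediateField k M) M)
        fun m => ⟨⟨m, IntermediateField.mem_top⟩, rfl⟩
  refine ⟨{Q | ¬ ∃ P : Place k M, IsOverWith Q P 1} ∪ {Q | 1 < Q.1 t},
    (hFM.finite_ramified (K' := K)).union ?_, fun Q hQ => ?_⟩
  · refine ((FF30.FF.of_isFunctionField hK).finite_support_ord t).subset fun P hP => ?_
    have := (FF30.one_lt_val_iff P).1 hP
    simp only [Function.mem_support]
    omega
  simp only [Set.mem_union, Set.mem_ofPred_eq, not_or, not_not, not_lt] at hQ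
  obtain ⟨⟨P, hP⟩, hQt⟩ := hQ
  obtain ⟨c, hc⟩ := LLS31.exists_val_sub_lt_one hK Q hQt
  refine ⟨c, ?_⟩
  set u := Q.1 (t - algebraMap k K c) with hu
  have hu0 : u ≠ 0 := by
    rw [hu, Valuation.ne_zero_iff, sub_ne_zero]
    exact fun h => ht (h ▸ isAlgebraic_algebraMap c)
  obtain ⟨y, hy⟩ := P.2.2 (exp (-1))
  obtain ⟨a, b, hab⟩ := (IntermediateField.mem_adjoin_simple_iff k (y : K)).1 y.2
  have hQy : Q.1 (y : K) = exp (-1) := by
    have := hP y
    rwa [pow_one, hy] at this
  have ha : a ≠ 0 := by
    rintro rfl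
    rw [hab, map_zero, zero_div, map_zero] at hQy
    exact exp_ne_zero hQy.symm
  have hb : b ≠ 0 := by
    rintro rfl
    rw [hab, map_zero, div_zero, map_zero] at hQy
    exact exp_ne_zero hQy.symm
  rw [hab, map_div₀, val_aeval_of_sub_lt hc a ha, val_aeval_of_sub_lt hc b hb, ← hu, ← exp_log hu0,
    ← exp_nsmul, ← exp_nsmul, ← exp_sub, exp_inj, nsmul_eq_mul, nsmul_eq_mul, ← sub_mul] at hQy
  have hlog : log u < 0 := by
    rw [← exp_lt_exp, exp_log hu0, exp_zero]
    exact hc
  have hunit : log u = 1 ∨ log u = -1 := Int.isUnit_iff.1 (IsUnit.of_mul_eq_one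
    ((b.rootMultiplicity c : ℤ) - a.rootMultiplicity c) (by linear_combination -hQy))
  rw [← exp_log hu0, exp_inj]
  omega

/-- Almost every place has an expansion in `t - c`. -/
theorem exists_finite_forall_expansion [IsAlgClosed k] (hK : IsFunctionField k K) {t : K}
    (ht : Transcendental k t) [FiniteDimensional (IntermediateField.adjoin k ({t} : Set K)) K]
    [Algebra.IsSeparable (IntermediateField.adjoin k ({t} : Set K)) K] :
    ∃ B : Set (Place k K), B.Finite ∧ ∀ Q ∉ B, ∃ (c : k) (φ : K →ₐ[k] k⸨X⸩),
      LocRes.IsExpansionAt Q.1 φ ∧ φ t = HahnSeries.single 1 1 + HahnSeries.C c := by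
  obtain ⟨B, hB, h⟩ := exists_finite_forall_param hK ht
  refine ⟨B, hB, fun Q hQ => ?_⟩
  obtain ⟨c, hc⟩ := h Q hQ
  refine ⟨c, expand (isRational_of_isAlgClosed hK Q) hc,
    isExpansionAt_expand (isRational_of_isAlgClosed hK Q) hc, ?_⟩
  exact (congrArg _ (sub_add_cancel t (algebraMap k K c)).symm).trans
    (by rw [map_add, expand_param, LocRes.map_algebraMap, Algebra.algebraMap_self, RingHom.id_apply])

/-- A Wronskian of linearly independent elements with respect to a derivation with constants `k`. -/
theorem det_wronskian_ne_zero (δ : K →+ K) (hmul : ∀ a b, δ (a * b) = a * δ b + b * δ a)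
    (hker : ∀ a, δ a = 0 → a ∈ Set.range (algebraMap k K)) {n : ℕ} (f : Fin n → K)
    (hf : LinearIndependent k f) :
    (Matrix.of fun j i : Fin n => δ^[j] (f i)).det ≠ 0 := by
  suffices key : ∀ (n : ℕ) (f : Fin n → K), LinearIndependent k f → ∀ a : Fin n → K,
      (∀ j, j < n → ∑ i, a i * δ^[j] (f i) = 0) → a = 0 by
    rw [ne_eq, ← Matrix.exists_mulVec_eq_zero_iff]
    rintro ⟨a, ha, h⟩
    refine ha (key n f hf a fun j hj => ?_)
    have := congrFun h ⟨j, hj⟩
    simpa [Matrix.mulVec, dotProduct, mul_comm] using this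
  intro n
  induction n with
  | zero => intros; funext i; exact i.elim0
  | succ n ih =>
    intro f hf a ha
    have hf' : LinearIndependent k (f ∘ Fin.succ) := hf.comp _ (Fin.succ_injective n)
    by_cases h0 : a 0 = 0
    · have htail := ih (f ∘ Fin.succ) hf' (a ∘ Fin.succ) fun j hj => by
        have := ha j (by omega)
        rwa [Fin.sum_univ_succ, h0, zero_mul, zero_add] at this
      funext i
      cases i using Fin.cases with
      | zero => exact h0
      | succ i => exact congrFun htail i
    exfalso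
    set b : Fin (n + 1) → K := fun i => a i / a 0 with hbdef
    have hb0 : b 0 = 1 := div_self h0
    have hb : ∀ j, j < n + 1 → ∑ i, b i * δ^[j] (f i) = 0 := fun j hj => by
      simp only [b, div_mul_eq_mul_div, ← Finset.sum_div, ha j hj, zero_div]
    have hd1 : δ 1 = 0 := by simpa using hmul 1 1
    have hd : ∀ j, j < n → ∑ i, δ (b i) * δ^[j] (f i) = 0 := fun j hj => by
      have h1 := congrArg δ (hb j (by omega))
      rw [map_sum, map_zero] at h1
      simp only [hmul, ← Function.iterate_succ_apply' δ, Finset.sum_add_distrib,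
        hb (j + 1) (by omega), zero_add] at h1
      simpa [mul_comm] using h1
    have htail := ih (f ∘ Fin.succ) hf' (fun i => δ (b i.succ)) fun j hj => by
      have := hd j hj
      rwa [Fin.sum_univ_succ, hb0, hd1, zero_mul, zero_add] at this
    have hc : ∀ i, ∃ c : k, algebraMap k K c = b i := by
      intro i
      cases i using Fin.cases with
      | zero => exact ⟨1, by rw [map_one, hb0]⟩
      | succ i => exact hker _ (congrFun htail i)
    choose c hc using hc
    have h1 := hb 0 (by omega)
    simp only [Function.iterate_zero, id_eq, ← hc, ← Algebra.smul_def] at h1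
    have := Fintype.linearIndependent_iff.1 hf c h1 0
    rw [← hc 0, this, map_zero] at hb0
    exact zero_ne_one hb0

/-- In characteristic zero a finite-dimensional space has members vanishing to order at least its
dimension at only finitely many places. -/
theorem finite_setOf_exists_vanish [IsAlgClosed k] [CharZero k] (hK : IsFunctionField k K)
    (V : Submodule k K) [FiniteDimensional k V] :
    {Q : Place k K | ∃ g ∈ V, g ≠ 0 ∧ Q.1 g ≤ exp (-(Module.finrank k V : ℤ))}.Finite := by
  classical
  obtain ⟨t, ht, hfin⟩ := hK.1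
  have : CharZero (IntermediateField.adjoin k ({t} : Set K)) :=
    charZero_of_injective_algebraMap (algebraMap k _).injective
  have : Algebra.IsSeparable (IntermediateField.adjoin k ({t} : Set K)) K := inferInstance
  obtain ⟨H, hH⟩ := exists_isHasseFamily t ht
  obtain ⟨B, hB, hgood⟩ := exists_finite_forall_expansion hK ht
  set n := Module.finrank k V
  let bas := Module.finBasis k V
  let f : Fin n → K := fun i => bas i
  let δ : K →+ K := AddMonoidHom.mk' (LocRes.hasseD H 1) fun a b => by
    simp only [LocRes.hasseD_apply, map_add]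
  rcases isEmpty_or_nonempty {Q : Place k K // Q ∉ B} with he | hne
  · refine hB.subset fun Q _ => ?_
    by_contra h
    exact he.false ⟨Q, h⟩
  obtain ⟨Q₀, hQ₀⟩ := hne
  obtain ⟨c₀, φ₀, hφ₀, -⟩ := hgood Q₀ hQ₀
  have hker : ∀ a, δ a = 0 → a ∈ Set.range (algebraMap k K) := by
    intro a ha
    refine ⟨(φ₀ a).coeff 0, φ₀.toRingHom.injective ?_⟩
    show φ₀ (algebraMap k K _) = φ₀ a
    rw [LocRes.map_algebraMap, Algebra.algebraMap_self, RingHom.id_apply]
    have h0 := (D_eq_zero_iff hφ₀ hH a).2 ha
    ext m
    rcases eq_or_ne m 0 with rfl | hm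
    · simp
    · have h1 := congrArg (fun s : k⸨X⸩ => s.coeff (m - 1)) h0
      simp only [LocRes.D_coeff, sub_add_cancel, HahnSeries.coeff_zero, zsmul_eq_mul,
        mul_eq_zero, Int.cast_eq_zero, hm, false_or] at h1
      simp [HahnSeries.C_apply, HahnSeries.coeff_single_of_ne hm, h1]
  have hli : LinearIndependent k f := bas.linearIndependent.map' V.subtype V.ker_subtype
  have hdet := det_wronskian_ne_zero δ (hasseD_one_mul hH) hker f hli
  set W := Matrix.of fun j i : Fin n => δ^[j] (f i) with hW
  refine (((FF30.FF.of_isFunctionField hK).finite_support_ord W.det).union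
    (hB.union (Set.Finite.biUnion (Finset.finite_toSet (Finset.univ : Finset (Fin n)))
      fun i _ => (FF30.FF.of_isFunctionField hK).finite_support_ord (f i)))).subset ?_
  rintro Q ⟨g, hgV, hg0, hgv⟩
  by_contra hQ
  simp only [Set.mem_union, Set.mem_iUnion, not_or, not_exists, Function.mem_support, ne_eq,
    not_not] at hQ
  obtain ⟨hQdet, hQB, hQf⟩ := hQ
  obtain ⟨c, φ, hφ, hφt⟩ := hgood Q hQB
  have hD : ∀ z, φ (δ z) = LocRes.D k (φ z) := fun z =>
    (hasseDeriv_expansion φ hH hφt 1 z).symm
  have hDj : ∀ j z, φ (δ^[j] z) = (LocRes.D k)^[j] (φ z) := by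
    intro j z
    induction j with
    | zero => rfl
    | succ j ih => rw [Function.iterate_succ_apply', Function.iterate_succ_apply', hD, ih]
  have hbound : ∀ (j : ℕ) (s : k⸨X⸩) (e : ℤ), Valued.v s ≤ exp (-e) →
      Valued.v ((LocRes.D k)^[j] s) ≤ exp (-(e - j)) := by
    intro j s e hs
    induction j with
    | zero => simpa using hs
    | succ j ih =>
      rw [Function.iterate_succ_apply', Nat.cast_succ, ← sub_sub]
      exact val_D_le ih
  have hint : ∀ (j : ℕ) (z : K), Q.1 z ≤ 1 → Q.1 (δ^[j] z) ≤ 1 := by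
    intro j z hz
    induction j with
    | zero => exact hz
    | succ j ih =>
      rw [Function.iterate_succ_apply', ← hφ.1, hD, ← exp_zero, ← neg_zero]
      refine val_le_iff.2 fun m hm => ?_
      rw [LocRes.D_coeff]
      rcases eq_or_ne m (-1) with rfl | hm1
      · simp
      · rw [(val_le_iff (e := 0)).1 (by rwa [hφ.1, neg_zero, exp_zero]) (m + 1) (by omega), smul_zero]
  have hWint : ∀ j i, Q.1 (W j i) ≤ 1 := fun j i => by
    refine hint _ _ ?_
    rw [FF30.val_le_one_iff]
    exact (hQf i (Finset.mem_coe.2 (Finset.mem_univ i))).ge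
  -- coordinates of `g`
  let cc : Fin n → k := fun i => bas.repr ⟨g, hgV⟩ i
  have hg : ∑ i, cc i • f i = g := by
    have := congrArg Subtype.val (bas.sum_repr ⟨g, hgV⟩)
    simpa only [cc, f, Submodule.coe_sum, Submodule.coe_smul] using this
  obtain ⟨i₀, hi₀⟩ : ∃ i, cc i ≠ 0 := by
    by_contra h
    push Not at h
    exact hg0 (by rw [← hg]; simp [h])
  let v : Fin n → K := fun i => algebraMap k K (cc i)
  have hδs : ∀ (j : ℕ) (a : k) (z : K), δ^[j] (a • z) = a • δ^[j] z := by
    intro j a z
    induction j with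
    | zero => rfl
    | succ j ih =>
      rw [Function.iterate_succ_apply', Function.iterate_succ_apply', ih]
      show LocRes.hasseD H 1 _ = a • LocRes.hasseD H 1 _
      rw [Algebra.smul_def, hasseD_one_mul hH, hasseD_one_algebraMap, mul_zero, add_zero, Algebra.smul_def]
  have hWv : ∀ j, Q.1 (W.mulVec v j) < 1 := by
    intro j
    have : W.mulVec v j = δ^[j] g := by
      have hsum : ∀ m : ℕ, (⇑δ)^[m] (∑ i, cc i • f i : K) = ∑ i, (⇑δ)^[m] (cc i • f i) := by
        intro m
        induction m with
        | zero => rfl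
        | succ m ih => simp only [Function.iterate_succ_apply', ih, map_sum]
      rw [← hg, hsum, Matrix.mulVec, dotProduct]
      refine Finset.sum_congr rfl fun i _ => ?_
      rw [hδs, Algebra.smul_def, mul_comm]
      rfl
    rw [this, ← hφ.1, hDj]
    refine (hbound _ _ _ (by rwa [hφ.1])).trans_lt ?_
    rw [← exp_zero, exp_lt_exp]
    have := j.isLt
    omega
  have h1 : Q.1 (W.det * v i₀) < 1 := by
    have h2 : W.det • v = W.adjugate.mulVec (W.mulVec v) := by
      rw [Matrix.mulVec_mulVec, Matrix.adjugate_mul, Matrix.smul_mulVec, Matrix.one_mulVec]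
    rw [← smul_eq_mul, ← Pi.smul_apply, h2]
    simp only [Matrix.mulVec, dotProduct]
    refine Q.1.map_sum_lt one_ne_zero fun i _ => ?_
    rw [map_mul]
    refine (mul_le_of_le_one_left' ?_).trans_lt (hWv i)
    let W' : Matrix (Fin n) (Fin n) Q.O := Matrix.of fun j i => ⟨W j i, hWint j i⟩
    have hW' : W.adjugate = W'.adjugate.map Q.O.subtype := (RingHom.map_adjugate Q.O.subtype W').symm
    rw [hW']
    exact (W'.adjugate i₀ i).2
  rw [map_mul, FF30.val_algebraMap Q hi₀, mul_one] at h1
  exact absurd hQdet (ne_of_gt ((FF30.val_lt_one_iff Q hdet).1 h1))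

end Groth.Agent.Exp31
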