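import Groth.Prelude.Def_LocRes
import Mathlib.Algebra.Polynomial.HasseDeriv
import Mathlib.RingTheory.PowerSeries.Trunc

/-! Taylor expansion of Laurent series: all Hasse derivatives form a ring homomorphism. -/

namespace Groth.Agent.Exp31

open scoped LaurentSeries
open Finset

variable {F : Type*} [Field F]

/-- The Hasse derivative of a power series. -/
noncomputable def psHasse (j : ℕ) (f : PowerSeries F) : PowerSeries F :=
  PowerSeries.mk fun m => ((m + j).choose j : F) * PowerSeries.coeff (m + j) f

theorem hasseDeriv_coe (j : ℕ) (f : PowerSeries F) :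
    LaurentSeries.hasseDeriv F j (f : F⸨X⸩) = (psHasse j f : F⸨X⸩) := by
  ext n
  rw [LaurentSeries.hasseDeriv_coeff, PowerSeries.coeff_coe, PowerSeries.coeff_coe]
  rcases le_or_gt 0 n with h | h
  · lift n to ℕ using h
    rw [if_neg (by omega), if_neg (by omega), psHasse, PowerSeries.coeff_mk,
      show ((n : ℤ) + j).natAbs = n + j by omega, Int.natAbs_natCast, ← Nat.cast_add,
      Ring.choose_natCast, zsmul_eq_mul, Int.cast_natCast]
  · rw [if_pos h]
    by_cases h' : n + j < 0
    · rw [if_pos h', smul_zero]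
    · obtain ⟨i, hi⟩ : ∃ i : ℕ, n + j = i := ⟨(n + j).toNat, by omega⟩
      rw [hi, Ring.choose_natCast, Nat.choose_eq_zero_of_lt (by omega), Nat.cast_zero, zero_smul]

theorem psHasse_mul (j : ℕ) (f g : PowerSeries F) :
    psHasse j (f * g) = ∑ ij ∈ antidiagonal j, psHasse ij.1 f * psHasse ij.2 g := by
  ext m
  have hN : ∀ (h : PowerSeries F) (i a : ℕ), i + a ≤ m + j →
      (Polynomial.hasseDeriv a (h.trunc (m + j + 1))).coeff i = PowerSeries.coeff i (psHasse a h) := by
    intro h i a hia
    rw [Polynomial.hasseDeriv_coeff, psHasse, PowerSeries.coeff_mk, PowerSeries.coeff_trunc,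
      if_pos (by omega)]
  have hmul : (f.trunc (m + j + 1) * g.trunc (m + j + 1)).coeff (m + j) =
      PowerSeries.coeff (m + j) (f * g) := by
    rw [Polynomial.coeff_mul, PowerSeries.coeff_mul]
    refine Finset.sum_congr rfl fun p hp => ?_
    rw [Finset.HasAntidiagonal.mem_antidiagonal] at hp
    rw [PowerSeries.coeff_trunc, PowerSeries.coeff_trunc, if_pos (by omega), if_pos (by omega)]
  have key := congrArg (fun p : Polynomial F => p.coeff m)
    (Polynomial.hasseDeriv_mul (k := j) (f := f.trunc (m + j + 1)) (g := g.trunc (m + j + 1)))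
  simp only [Polynomial.finsetSum_coeff, Polynomial.hasseDeriv_coeff, hmul] at key
  rw [psHasse, PowerSeries.coeff_mk, key, map_sum]
  refine Finset.sum_congr rfl fun ij hij => ?_
  rw [Finset.HasAntidiagonal.mem_antidiagonal] at hij
  rw [Polynomial.coeff_mul, PowerSeries.coeff_mul]
  refine Finset.sum_congr rfl fun p hp => ?_
  rw [Finset.HasAntidiagonal.mem_antidiagonal] at hp
  rw [hN f p.1 ij.1 (by omega), hN g p.2 ij.2 (by omega)]

/-- All Hasse derivatives of a Laurent series, as one power series. -/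
noncomputable def taylorFun (f : F⸨X⸩) : PowerSeries F⸨X⸩ :=
  PowerSeries.mk fun j => LaurentSeries.hasseDeriv F j f

theorem hasseDeriv_zero_apply (f : F⸨X⸩) : LaurentSeries.hasseDeriv F 0 f = f := by
  ext n
  simp [LaurentSeries.hasseDeriv_coeff]

theorem taylorFun_coe_mul (f g : PowerSeries F) :
    taylorFun ((f : F⸨X⸩) * (g : F⸨X⸩)) = taylorFun (f : F⸨X⸩) * taylorFun (g : F⸨X⸩) := by
  ext1 j
  simp only [taylorFun, PowerSeries.coeff_mul, PowerSeries.coeff_mk, ← map_mul, hasseDeriv_coe,
    psHasse_mul, map_sum]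

/-- `X + S`. -/
noncomputable def shiftX : PowerSeries F⸨X⸩ :=
  PowerSeries.C (HahnSeries.single 1 1) + PowerSeries.X

theorem taylorFun_X_mul (f : F⸨X⸩) :
    taylorFun (HahnSeries.single 1 (1 : F) * f) = shiftX * taylorFun f := by
  refine PowerSeries.ext fun j => ?_
  rw [shiftX, add_mul, map_add, PowerSeries.coeff_C_mul]
  cases j with
  | zero =>
    simp only [taylorFun, PowerSeries.coeff_mk, hasseDeriv_zero_apply,
      PowerSeries.coeff_zero_X_mul, add_zero]
  | succ j =>
    rw [PowerSeries.coeff_succ_X_mul]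
    simp only [taylorFun, PowerSeries.coeff_mk]
    ext n
    rw [HahnSeries.coeff_add, LaurentSeries.hasseDeriv_coeff, HahnSeries.coeff_single_mul,
      HahnSeries.coeff_single_mul, LaurentSeries.hasseDeriv_coeff, LaurentSeries.hasseDeriv_coeff,
      one_mul, one_mul, show n + ((j + 1 : ℕ) : ℤ) - 1 = n + j by push_cast; ring,
      show n - 1 + ((j + 1 : ℕ) : ℤ) = n + j by push_cast; ring,
      show n + ((j + 1 : ℕ) : ℤ) = (n + j) + 1 by push_cast; ring, Ring.choose_succ_succ,
      add_smul, add_comm]

theorem taylorFun_pow_mul (a : ℕ) (f : F⸨X⸩) :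
    taylorFun (HahnSeries.single (a : ℤ) (1 : F) * f) = shiftX ^ a * taylorFun f := by
  induction a with
  | zero => simp [show HahnSeries.single (0 : ℤ) (1 : F) = 1 from rfl]
  | succ a ih =>
    rw [show HahnSeries.single ((a + 1 : ℕ) : ℤ) (1 : F) =
      HahnSeries.single 1 1 * HahnSeries.single (a : ℤ) 1 by
      rw [HahnSeries.single_mul_single, one_mul]; congr 1; push_cast; ring,
      mul_assoc, taylorFun_X_mul, ih, pow_succ']
    ring

theorem shiftX_ne_zero : (shiftX : PowerSeries F⸨X⸩) ≠ 0 := fun h => by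
  have := congrArg (PowerSeries.coeff 1) h
  simp [shiftX, PowerSeries.coeff_C] at this

theorem exists_eq_coe (f : F⸨X⸩) :
    ∃ (a : ℕ) (G : PowerSeries F), HahnSeries.single (a : ℤ) (1 : F) * f = (G : F⸨X⸩) := by
  refine ⟨f.order.natAbs, PowerSeries.X ^ (f.order + f.order.natAbs).toNat *
    LaurentSeries.powerSeriesPart f, ?_⟩
  conv_lhs => arg 2; rw [← f.single_order_mul_powerSeriesPart]
  rw [map_mul, HahnSeries.ofPowerSeries_X_pow, ← mul_assoc, HahnSeries.single_mul_single, one_mul,
    Int.toNat_of_nonneg (by omega), add_comm]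

/-- Taylor expansion of a Laurent series at the shifted variable. -/
noncomputable def taylor : F⸨X⸩ →+* PowerSeries F⸨X⸩ where
  toFun := taylorFun
  map_zero' := PowerSeries.ext fun j => by simp [taylorFun]
  map_add' f g := PowerSeries.ext fun j => by simp [taylorFun]
  map_one' := PowerSeries.ext fun j => by
    have : (1 : F⸨X⸩) = ((1 : PowerSeries F) : F⸨X⸩) := by simp
    rw [taylorFun, PowerSeries.coeff_mk, this, hasseDeriv_coe, PowerSeries.coeff_one]
    cases j with
    | zero =>
      rw [if_pos rfl, show psHasse 0 (1 : PowerSeries F) = 1 from PowerSeries.ext fun m => by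
        simp [psHasse]]
      simp
    | succ j =>
      rw [if_neg (by omega), show psHasse (j + 1) (1 : PowerSeries F) = 0 from
        PowerSeries.ext fun m => by simp [psHasse, PowerSeries.coeff_one]]
      simp
  map_mul' f g := by
    obtain ⟨a, G, hG⟩ := exists_eq_coe f
    obtain ⟨b, H, hH⟩ := exists_eq_coe g
    refine mul_left_cancel₀ (pow_ne_zero (a + b) shiftX_ne_zero) ?_
    have h1 := taylorFun_coe_mul G H
    have e : (G : F⸨X⸩) * H = HahnSeries.single ((a + b : ℕ) : ℤ) (1 : F) * (f * g) := by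
      rw [← hG, ← hH, Nat.cast_add,
        show HahnSeries.single ((a : ℤ) + b) (1 : F) =
          HahnSeries.single (a : ℤ) 1 * HahnSeries.single (b : ℤ) 1 by
          rw [HahnSeries.single_mul_single, one_mul]]
      ring
    rw [e, taylorFun_pow_mul, ← hG, ← hH, taylorFun_pow_mul, taylorFun_pow_mul] at h1
    rw [h1, pow_add]; ring

theorem coeff_taylor (j : ℕ) (f : F⸨X⸩) :
    PowerSeries.coeff j (taylor f) = LaurentSeries.hasseDeriv F j f := by
  show PowerSeries.coeff j (taylorFun f) = _
  exact PowerSeries.coeff_mk _ _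

theorem constantCoeff_taylor (f : F⸨X⸩) : PowerSeries.constantCoeff (taylor f) = f := by
  rw [← PowerSeries.coeff_zero_eq_constantCoeff_apply, coeff_taylor, hasseDeriv_zero_apply]

theorem taylor_X : taylor (HahnSeries.single 1 (1 : F) : F⸨X⸩) = shiftX := by
  have := taylorFun_X_mul (1 : F⸨X⸩)
  rw [mul_one] at this
  exact this.trans (by rw [show taylorFun (1 : F⸨X⸩) = 1 from map_one (taylor (F := F)), mul_one])

theorem taylor_C (c : F) : taylor (HahnSeries.C c : F⸨X⸩) = PowerSeries.C (HahnSeries.C c) := by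
  refine PowerSeries.ext fun j => ?_
  rw [coeff_taylor, PowerSeries.coeff_C, ← HahnSeries.ofPowerSeries_C, hasseDeriv_coe]
  cases j with
  | zero =>
    rw [if_pos rfl, show psHasse 0 (PowerSeries.C c) = PowerSeries.C c from
      PowerSeries.ext fun m => by simp [psHasse]]
  | succ j =>
    rw [if_neg (by omega), show psHasse (j + 1) (PowerSeries.C c) = 0 from
      PowerSeries.ext fun m => by simp [psHasse, PowerSeries.coeff_C], map_zero]

theorem hasseDeriv_one_eq (f : F⸨X⸩) : LaurentSeries.hasseDeriv F 1 f = LocRes.D F f := rfl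

end Groth.Agent.Exp31
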